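import Mathlib.RingTheory.MvPowerSeries.Substitution
import Mathlib.RingTheory.MvPowerSeries.Order
import Mathlib.LinearAlgebra.Matrix.NonsingularInverse

/-!
# Substitution automorphisms of multivariate power series rings

`substEquiv`: the substitution `X i ↦ a i` is an automorphism of `R[[X]]` as soon as the `a i`
have no constant term and their linear parts form an invertible matrix.
-/

namespace Groth.Agent.PowerSeriesAut

open MvPowerSeries Finsupp

universe u v

variable {σ : Type v} {R : Type u} [CommRing R]

/-- `x` and `y` both have order `≥ n` and agree up to degree `n`. -/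
def Agree (n : ℕ) (x y : MvPowerSeries σ R) : Prop :=
  (n : ℕ∞) ≤ x.order ∧ (n : ℕ∞) ≤ y.order ∧ ((n + 1 : ℕ) : ℕ∞) ≤ (x - y).order

theorem Agree.one : Agree 0 (1 : MvPowerSeries σ R) 1 := by
  simp [Agree]

theorem Agree.mul {m n : ℕ} {x y x' y' : MvPowerSeries σ R} (h : Agree m x x')
    (h' : Agree n y y') : Agree (m + n) (x * y) (x' * y') := by
  obtain ⟨h1, h2, h3⟩ := h
  obtain ⟨k1, k2, k3⟩ := h'
  push_cast at h3 k3
  refine ⟨?_, ?_, ?_⟩
  · push_cast; exact (add_le_add h1 k1).trans le_order_mul
  · push_cast; exact (add_le_add h2 k2).trans le_order_mul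
  · rw [show x * y - x' * y' = (x - x') * y + x' * (y - y') by ring]
    refine le_trans (le_min ?_ ?_) min_order_le_add
    · refine le_trans ?_ ((add_le_add h3 k1).trans le_order_mul)
      push_cast; rw [add_right_comm]
    · refine le_trans ?_ ((add_le_add h2 k3).trans le_order_mul)
      push_cast; rw [add_assoc]

theorem Agree.pow {m : ℕ} {x x' : MvPowerSeries σ R} (h : Agree m x x') :
    ∀ k, Agree (k * m) (x ^ k) (x' ^ k)
  | 0 => by simpa using Agree.one
  | k + 1 => by simpa [pow_succ, add_mul] using (Agree.pow h k).mul h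

theorem Agree.prod {ι : Type*} (s : Finset ι) (n : ι → ℕ) (x y : ι → MvPowerSeries σ R)
    (h : ∀ i ∈ s, Agree (n i) (x i) (y i)) :
    Agree (∑ i ∈ s, n i) (∏ i ∈ s, x i) (∏ i ∈ s, y i) := by
  classical
  induction s using Finset.induction with
  | empty => simpa using Agree.one
  | insert i s hi ih =>
    rw [Finset.sum_insert hi, Finset.prod_insert hi, Finset.prod_insert hi]
    exact (h i (Finset.mem_insert_self i s)).mul
      (ih fun j hj => h j (Finset.mem_insert_of_mem hj))

theorem agree_X {a : σ → MvPowerSeries σ R} (h0 : ∀ i, constantCoeff (a i) = 0)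
    (h1 : ∀ i, 2 ≤ (a i - X i).order) (i : σ) : Agree 1 (a i) (X i) :=
  ⟨by simpa using one_le_order_iff_constCoeff_eq_zero.2 (h0 i),
   by simpa using one_le_order_iff_constCoeff_eq_zero.2 (constantCoeff_X i),
   by simpa using h1 i⟩

theorem coeff_prod_eq_of_le [DecidableEq σ] {a : σ → MvPowerSeries σ R}
    (h0 : ∀ i, constantCoeff (a i) = 0) (h1 : ∀ i, 2 ≤ (a i - X i).order) (e d : σ →₀ ℕ)
    (hd : d.degree ≤ e.degree) :
    coeff d (e.prod fun s k => a s ^ k) = if d = e then 1 else 0 := by
  have hA : Agree e.degree (e.prod fun s k => a s ^ k) (e.prod fun s k => X s ^ k) := by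
    have := Agree.prod e.support (fun i => e i * 1) (fun i => a i ^ e i)
      (fun i => (X i : MvPowerSeries σ R) ^ e i) fun i _ => (agree_X h0 h1 i).pow (e i)
    simpa [Finsupp.prod, Finsupp.degree_apply] using this
  have hz : coeff d ((e.prod fun s k => a s ^ k) - e.prod fun s k => X s ^ k) = 0 :=
    coeff_of_lt_order (lt_of_lt_of_le (by exact_mod_cast Nat.lt_succ_of_le hd) hA.2.2)
  rw [map_sub, sub_eq_zero] at hz
  rw [hz, ← monomial_one_eq, coeff_monomial]

theorem order_subst_sub_self [Finite σ] {a : σ → MvPowerSeries σ R}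
    (h0 : ∀ i, constantCoeff (a i) = 0) (h1 : ∀ i, 2 ≤ (a i - X i).order)
    (f : MvPowerSeries σ R) (n : ℕ) (hn : (n : ℕ∞) ≤ f.order) :
    ((n + 1 : ℕ) : ℕ∞) ≤ (subst a f - f).order := by
  classical
  refine nat_le_order fun d hd => ?_
  rw [map_sub, coeff_subst (hasSubst_of_constantCoeff_zero h0), finsum_eq_single _ d,
    coeff_prod_eq_of_le h0 h1 d d le_rfl, if_pos rfl, smul_eq_mul, mul_one, sub_self]
  intro e he
  by_cases hen : e.degree < n
  · rw [coeff_of_lt_order (lt_of_lt_of_le (by exact_mod_cast hen) hn), zero_smul]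
  · rw [coeff_prod_eq_of_le h0 h1 e d (by omega), if_neg (fun h => he h.symm), smul_zero]

theorem bijective_subst_of_order [Finite σ] {a : σ → MvPowerSeries σ R}
    (h0 : ∀ i, constantCoeff (a i) = 0) (h1 : ∀ i, 2 ≤ (a i - X i).order) :
    Function.Bijective (subst a : MvPowerSeries σ R → MvPowerSeries σ R) := by
  have ha := hasSubst_of_constantCoeff_zero h0
  constructor
  · intro f g hfg
    have hz : ∀ n : ℕ, (n : ℕ∞) ≤ (f - g).order := by
      intro n
      induction n with
      | zero => simp
      | succ n ih =>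
        have h := order_subst_sub_self h0 h1 _ n ih
        rwa [subst_sub ha, hfg, sub_self, zero_sub, order_neg] at h
    refine sub_eq_zero.1 (ext fun d => ?_)
    rw [map_zero]
    exact coeff_of_lt_order (lt_of_lt_of_le (by exact_mod_cast Nat.lt_succ_self _) (hz (d.degree + 1)))
  · intro h
    let T : MvPowerSeries σ R → MvPowerSeries σ R := fun f => subst a f - f
    have hT : ∀ f g, T f - T g = T (f - g) := fun f g => by
      simp only [T, subst_sub ha]; abel
    let s : ℕ → MvPowerSeries σ R := fun k => (fun f => h - T f)^[k] 0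
    have hs : ∀ k, s (k + 1) = h - T (s k) := fun k =>
      Function.iterate_succ_apply' (fun f => h - T f) k 0
    have hstep : ∀ k : ℕ, (k : ℕ∞) ≤ (s (k + 1) - s k).order := by
      intro k
      induction k with
      | zero => simp
      | succ k ih =>
        rw [hs (k + 1), hs k, sub_sub_sub_cancel_left, ← order_neg, neg_sub, hT]
        rw [← hs k]
        exact order_subst_sub_self h0 h1 _ k ih
    have hstab : ∀ j k : ℕ, (k : ℕ∞) ≤ (s (k + j) - s k).order := by
      intro j
      induction j with
      | zero => simp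
      | succ j ih =>
        intro k
        rw [show s (k + (j + 1)) - s k = (s (k + j + 1) - s (k + j)) + (s (k + j) - s k) by
          rw [← add_assoc]; abel]
        exact le_trans (le_min (le_trans (by exact_mod_cast Nat.le_add_right k j) (hstep (k + j)))
          (ih k)) min_order_le_add
    let F : MvPowerSeries σ R := fun d => coeff d (s (d.degree + 1))
    have hF : ∀ k : ℕ, (k : ℕ∞) ≤ (F - s k).order := by
      intro k
      refine nat_le_order fun d hd => ?_
      obtain ⟨j, rfl⟩ := Nat.exists_eq_add_of_le (Nat.succ_le_of_lt hd)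
      have := coeff_of_lt_order (lt_of_lt_of_le (by exact_mod_cast Nat.lt_succ_self d.degree)
        (hstab j (d.degree + 1)))
      rw [map_sub] at this ⊢
      rw [show coeff d F = coeff d (s (d.degree + 1)) from rfl, sub_eq_zero]
      exact (sub_eq_zero.1 this).symm
    refine ⟨F, sub_eq_zero.1 (ext fun d => ?_)⟩
    rw [map_zero]
    obtain ⟨k, hk⟩ : ∃ k, k = d.degree + 1 := ⟨_, rfl⟩
    have e : subst a F - h = (F - s (k + 1)) + T (F - s k) := by
      rw [← hT, hs]; simp only [T]; abel
    rw [e, map_add, coeff_of_lt_order (lt_of_lt_of_le (by exact_mod_cast (by omega : d.degree < k + 1))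
      (hF (k + 1))), coeff_of_lt_order (lt_of_lt_of_le
      (by exact_mod_cast (by omega : d.degree < k + 1)) (order_subst_sub_self h0 h1 _ k (hF k))),
      add_zero]

section Linear

variable [Fintype σ]

/-- The tuple of linear forms with coefficient matrix `M`. -/
noncomputable def lin (M : Matrix σ σ R) (i : σ) : MvPowerSeries σ R := ∑ j, M i j • X j

theorem constantCoeff_lin (M : Matrix σ σ R) (i : σ) : constantCoeff (lin M i) = 0 := by
  simp [lin]

theorem subst_lin {a : σ → MvPowerSeries σ R} (ha : HasSubst a) (M : Matrix σ σ R) (i : σ) :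
    subst a (lin M i) = ∑ j, M i j • a j := by
  rw [lin, ← coe_substAlgHom ha, map_sum]
  simp [subst_X ha]

theorem subst_lin_lin (L M : Matrix σ σ R) :
    (fun i => subst (lin M) (lin L i)) = lin (L * M) := by
  funext i
  rw [subst_lin (hasSubst_of_constantCoeff_zero (constantCoeff_lin M))]
  simp only [lin, Matrix.mul_apply, Finset.sum_smul, Finset.smul_sum, smul_smul]
  exact Finset.sum_comm

theorem lin_one [DecidableEq σ] : lin (1 : Matrix σ σ R) = X := by
  funext i
  simp [lin, Matrix.one_apply, ite_smul, Finset.sum_ite_eq]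

theorem coeff_lin_single [DecidableEq σ] (M : Matrix σ σ R) (i j : σ) :
    coeff (Finsupp.single j 1) (lin M i) = M i j := by
  simp [lin, map_sum, coeff_X, Finsupp.single_eq_single_iff]

/-- A substitution without constant terms and with invertible linear part is bijective. -/
theorem bijective_subst [DecidableEq σ] {a : σ → MvPowerSeries σ R}
    (h0 : ∀ i, constantCoeff (a i) = 0)
    (hL : IsUnit (Matrix.of fun i j => coeff (Finsupp.single j 1) (a i))) :
    Function.Bijective (subst a : MvPowerSeries σ R → MvPowerSeries σ R) := by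
  set L : Matrix σ σ R := Matrix.of fun i j => coeff (Finsupp.single j 1) (a i) with hLdef
  obtain ⟨M, hLM, hML⟩ := isUnit_iff_exists.1 hL
  have ha := hasSubst_of_constantCoeff_zero h0
  have hM := hasSubst_of_constantCoeff_zero (constantCoeff_lin (R := R) M)
  have hL' := hasSubst_of_constantCoeff_zero (constantCoeff_lin (R := R) L)
  have hbM : Function.Bijective (subst (lin M) : MvPowerSeries σ R → MvPowerSeries σ R) := by
    refine Function.bijective_iff_has_inverse.2 ⟨subst (lin L), fun f => ?_, fun f => ?_⟩
    · rw [subst_comp_subst_apply hM hL', subst_lin_lin, hML, lin_one, subst_self, id]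
    · rw [subst_comp_subst_apply hL' hM, subst_lin_lin, hLM, lin_one, subst_self, id]
  set b : σ → MvPowerSeries σ R := fun i => subst (lin M) (a i) with hb
  have hb0 : ∀ i, constantCoeff (b i) = 0 := fun i =>
    constantCoeff_subst_eq_zero hM (constantCoeff_lin M) (h0 i)
  have hb1 : ∀ i, 2 ≤ (b i - X i).order := by
    intro i
    have hr : (2 : ℕ∞) ≤ (a i - lin L i).order := by
      refine nat_le_order (n := 2) fun d hd => ?_
      rcases Nat.lt_succ_iff_lt_or_eq.1 hd with hd | hd
      · obtain rfl : d = 0 := (Finsupp.degree_eq_zero_iff d).1 (by omega)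
        simp [h0 i, constantCoeff_lin]
      · obtain ⟨j, rfl⟩ : d ∈ Set.range (fun j : σ => Finsupp.single j 1) := by
          rw [Finsupp.range_single_one]; exact hd
        rw [map_sub, coeff_lin_single]
        simp [hLdef]
    have hX : b i - X i = subst (lin M) (a i - lin L i) := by
      rw [subst_sub hM, hb]
      congr 1
      rw [congrFun (subst_lin_lin L M) i, hLM, lin_one]
    rw [hX]
    refine le_trans ?_ (le_order_subst hM _)
    calc (2 : ℕ∞) = 1 * 2 := (one_mul _).symm
      _ ≤ _ := mul_le_mul' (le_iInf fun j =>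
          one_le_order_iff_constCoeff_eq_zero.2 (constantCoeff_lin M j)) hr
  have hcomp : (subst b : MvPowerSeries σ R → MvPowerSeries σ R) = subst (lin M) ∘ subst a := by
    funext f
    exact (subst_comp_subst_apply ha hM f).symm
  have hbij := bijective_subst_of_order hb0 hb1
  rw [hcomp] at hbij
  exact ⟨hbij.1.of_comp, fun y => by
    obtain ⟨x, hx⟩ := hbij.2 (subst (lin M) y); exact ⟨x, hbM.1 hx⟩⟩

/-- The substitution `X i ↦ a i` as an algebra automorphism. -/
noncomputable def substEquiv [DecidableEq σ] (a : σ → MvPowerSeries σ R)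
    (h0 : ∀ i, constantCoeff (a i) = 0)
    (hL : IsUnit (Matrix.of fun i j => coeff (Finsupp.single j 1) (a i))) :
    MvPowerSeries σ R ≃ₐ[R] MvPowerSeries σ R :=
  AlgEquiv.ofBijective (substAlgHom (hasSubst_of_constantCoeff_zero h0))
    (by rw [coe_substAlgHom]; exact bijective_subst h0 hL)

theorem substEquiv_apply [DecidableEq σ] (a : σ → MvPowerSeries σ R)
    (h0 : ∀ i, constantCoeff (a i) = 0)
    (hL : IsUnit (Matrix.of fun i j => coeff (Finsupp.single j 1) (a i))) (f : MvPowerSeries σ R) :
    substEquiv a h0 hL f = subst a f := by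
  simp [substEquiv]

theorem substEquiv_X [DecidableEq σ] (a : σ → MvPowerSeries σ R)
    (h0 : ∀ i, constantCoeff (a i) = 0)
    (hL : IsUnit (Matrix.of fun i j => coeff (Finsupp.single j 1) (a i))) (i : σ) :
    substEquiv a h0 hL (X i) = a i := by
  rw [substEquiv_apply, subst_X (hasSubst_of_constantCoeff_zero h0)]

theorem substEquiv_C [DecidableEq σ] (a : σ → MvPowerSeries σ R)
    (h0 : ∀ i, constantCoeff (a i) = 0)
    (hL : IsUnit (Matrix.of fun i j => coeff (Finsupp.single j 1) (a i))) (r : R) :
    substEquiv a h0 hL (C r) = C r := by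
  rw [c_eq_algebraMap, AlgEquiv.commutes]

end Linear

/-- The linear coefficients of a product. -/
theorem coeff_single_one_mul (f g : MvPowerSeries σ R) (j : σ) :
    coeff (Finsupp.single j 1) (f * g) =
      constantCoeff f * coeff (Finsupp.single j 1) g +
        coeff (Finsupp.single j 1) f * constantCoeff g := by
  classical
  rw [coeff_mul, Finsupp.antidiagonal_single, Finset.sum_map, Finset.Nat.sum_antidiagonal_eq_sum_range_succ_mk]
  simp [Finset.sum_range_succ]

end Groth.Agent.PowerSeriesAut
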